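import Mathlib.CategoryTheory.Abelian.CommSq
import Mathlib.Algebra.Homology.ShortComplex.ShortExact
import Mathlib.Algebra.Homology.ShortComplex.Abelian
import Mathlib.Tactic.Ring

/-!
# Cokernels of a morphism of short exact sequences, and a numerical lemma (namespace `K923.Snake`)
-/

set_option autoImplicit false
open CategoryTheory CategoryTheory.Limits

namespace K923.Snake

section cat

variable {C : Type*} [Category C] [Abelian C] {S T : ShortComplex C} (hS : S.ShortExact) (hT : T.ShortExact)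
  (φ : S ⟶ T)

/-- The short complex of the cokernels. -/
noncomputable abbrev cok : ShortComplex C :=
  ShortComplex.mk (cokernel.map φ.τ₁ φ.τ₂ S.f T.f φ.comm₁₂) (cokernel.map φ.τ₂ φ.τ₃ S.g T.g φ.comm₂₃)
    (by
      rw [← cancel_epi (cokernel.π φ.τ₁)]
      simp)

include hS hT in
theorem mono_cok [Mono φ.τ₃] : Mono (cokernel.map φ.τ₁ φ.τ₂ S.f T.f φ.comm₁₂) := by
  have hSf : Mono S.f := hS.mono_f
  have hTf : Mono T.f := hT.mono_f
  have h : IsPullback φ.τ₁ S.f T.f φ.τ₂ := by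
    refine ⟨⟨φ.comm₁₂⟩, ⟨PullbackCone.IsLimit.mk _ (fun s => hS.exact.lift s.snd ?_) (fun s => ?_) (fun s => ?_)
      (fun s m hm1 hm2 => ?_)⟩⟩
    · rw [← cancel_mono φ.τ₃, Category.assoc, zero_comp, ← φ.comm₂₃, ← Category.assoc, ← s.condition, Category.assoc,
        T.zero, comp_zero]
    · rw [← cancel_mono T.f, Category.assoc, φ.comm₁₂, ← Category.assoc, hS.exact.lift_f, s.condition]
    · exact hS.exact.lift_f _ _
    · rw [← cancel_mono S.f, hm2, hS.exact.lift_f]
  exact Abelian.mono_cokernel_map_of_isPullback h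

include hS hT in
/-- The sequence of the cokernels is short exact when the third vertical map is a monomorphism. -/
theorem shortExact_cok [Mono φ.τ₃] : (cok φ).ShortExact := by
  have hSg : Epi S.g := hS.epi_g
  have hTg : Epi T.g := hT.epi_g
  refine ShortComplex.ShortExact.mk' ?_ (mono_cok hS hT φ) ?_
  · refine ShortComplex.exact_of_g_is_cokernel _ ?_
    refine CokernelCofork.IsColimit.ofπ' _ _ fun {A} u hu => ?_
    have h1 : T.f ≫ cokernel.π φ.τ₂ ≫ u = 0 := by
      have h : T.f ≫ cokernel.π φ.τ₂ = cokernel.π φ.τ₁ ≫ cokernel.map φ.τ₁ φ.τ₂ S.f T.f φ.comm₁₂ := by simp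
      rw [← Category.assoc, h, Category.assoc]
      exact (congrArg _ hu).trans comp_zero
    have h2 : φ.τ₃ ≫ hT.exact.desc (cokernel.π φ.τ₂ ≫ u) h1 = 0 := by
      rw [← cancel_epi S.g, comp_zero, ← Category.assoc, ← φ.comm₂₃, Category.assoc, hT.exact.g_desc,
        ← Category.assoc, cokernel.condition, zero_comp]
    refine ⟨cokernel.desc _ _ h2, ?_⟩
    rw [← cancel_epi (cokernel.π φ.τ₂)]
    simp
  · have h : cokernel.π φ.τ₂ ≫ cokernel.map φ.τ₂ φ.τ₃ S.g T.g φ.comm₂₃ = T.g ≫ cokernel.π φ.τ₃ := by simp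
    have : Epi (cokernel.π φ.τ₂ ≫ cokernel.map φ.τ₂ φ.τ₃ S.g T.g φ.comm₂₃) := by
      rw [h]; exact epi_comp _ _
    exact epi_of_epi (cokernel.π φ.τ₂) _

end cat

section num

theorem decay {f : ℤ → ℕ} (h : ∀ t, f (t + 1) ≠ 0 → f t < f (t + 1)) (h' : ∀ t, f t ≤ f (t + 1)) (T : ℤ) (m : ℕ) :
    f (T - m) ≤ f T - m := by
  induction m with
  | zero => simp
  | succ m ih =>
    have e : T - (m : ℤ) = (T - ((m + 1 : ℕ) : ℤ)) + 1 := by push_cast; ring
    rw [e] at ih
    by_cases h0 : f (T - ((m + 1 : ℕ) : ℤ) + 1) = 0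
    · have := h' (T - ((m + 1 : ℕ) : ℤ))
      omega
    · have := h _ h0
      omega

theorem eq_zero {f : ℤ → ℕ} (h : ∀ t, f (t + 1) ≠ 0 → f t < f (t + 1)) (h' : ∀ t, f t ≤ f (t + 1)) (T : ℤ) {t : ℤ}
    (ht : t ≤ T - f T) : f t = 0 := by
  have h1 := decay h h' T (T - t).toNat
  have h2 : T - ((T - t).toNat : ℤ) = t := by
    rw [Int.toNat_of_nonneg (by omega)]; ring
  rw [h2] at h1
  omega

theorem bound {w f : ℤ → ℕ} (hw : ∀ t, w t ≤ f t + w (t + 1)) (h : ∀ t, f (t + 1) ≠ 0 → f t < f (t + 1))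
    (h' : ∀ t, f t ≤ f (t + 1)) (T : ℤ) (hT : ∀ t, T ≤ t → w t = 0) (t : ℤ) : w t ≤ f T ^ 2 := by
  have key : ∀ m : ℕ, w (T - m) ≤ min m (f T) * f T := by
    intro m
    induction m with
    | zero =>
      rw [Nat.cast_zero, sub_zero, hT T le_rfl]
      exact Nat.zero_le _
    | succ m ih =>
      have h1 := hw (T - ((m + 1 : ℕ) : ℤ))
      have e : T - ((m + 1 : ℕ) : ℤ) + 1 = T - m := by push_cast; ring
      rw [e] at h1
      have h2 := decay h h' T (m + 1)
      rcases Nat.lt_or_ge m (f T) with hm | hm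
      · rw [min_eq_left hm.le] at ih
        rw [min_eq_left (by omega : m + 1 ≤ f T)]
        calc w (T - ((m + 1 : ℕ) : ℤ)) ≤ f (T - ((m + 1 : ℕ) : ℤ)) + w (T - m) := h1
          _ ≤ f T + m * f T := by omega
          _ = (m + 1) * f T := by ring
      · rw [min_eq_right hm] at ih
        rw [min_eq_right (by omega : f T ≤ m + 1)]
        omega
  rcases le_total T t with ht | ht
  · rw [hT t ht]; exact Nat.zero_le _
  · have h1 := key (T - t).toNat
    have h2 : T - ((T - t).toNat : ℤ) = t := by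
      rw [Int.toNat_of_nonneg (by omega)]; ring
    rw [h2] at h1
    refine h1.trans ?_
    rw [sq]
    exact Nat.mul_le_mul_right _ (min_le_right _ _)

end num

end K923.Snake
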