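import Groth.Agent.ShStab.K847.GLTwist
import Groth.Agent.ShStab.K923.Snake
import Groth.Agent.Fga.TwistCoh
import Groth.Agent.Dcoh.TensRestr
import Groth.Agent.Variety.K428.Reg

/-!
# Torsion in `R / R'` of codimension at least two (namespace `K923.NodeC`)

`0 → R' → R → Q → 0` exact on `P^n_k`, `R` and `R'` up to twist in a bounded family of pure `d`-dimensional quotients
of `O^b`: the submodules `τ` of `Q` with `dim Supp τ ≤ c`, `c + 2 ≤ d`, have bounded multiplicity.
-/

set_option autoImplicit false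
universe u
open CategoryTheory CategoryTheory.Limits AlgebraicGeometry TopologicalSpace Polynomial

namespace K923.NodeC

open Groth.Agent Groth.Agent.Fdesc Groth.Agent.Fdesc.LocGen Groth.Agent.Fga.RegSec Groth.Agent.Fga.PicMon ShStab
  K847.StabBasic K847.AssPure K847.CutAlg K847.Cut K847.Lin K847.TwistSS K847.CurveVan Groth.Agent.VarietyB.EulerBinom
  Groth.Agent.FormalA.HHLin K847.Pn K847.GL K847.HilbBasic StabCat

section cut

variable {X : Scheme.{u}} {N : X.Modules} (s : Coh.structureModule X ⟶ N)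

/-- Naturality of the multiplication by a section. -/
theorem mulS_nat {F G : X.Modules} (φ : F ⟶ G) :
    mulS s F ≫ (DCoh.tensorBi.obj N).map φ = φ ≫ mulS s G := by
  apply Scheme.Modules.hom_ext
  intro U
  ext x
  have h1 : ((DCoh.tensorBi.obj N).map φ).app U ((mulS s F).app U x) = (mulS s G).app U (φ.app U x) := by
    rw [mulS_app, mulS_app]
    exact Dcoh.TensRestr.tensorBi_obj_map_tmul N φ _ _
  exact h1

/-- Multiplication by a section on a short complex. -/
noncomputable abbrev mulSS (S : ShortComplex X.Modules) : S ⟶ S.map (DCoh.tensorBi.obj N) where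
  τ₁ := mulS s S.X₁
  τ₂ := mulS s S.X₂
  τ₃ := mulS s S.X₃
  comm₁₂ := mulS_nat s S.f
  comm₂₃ := mulS_nat s S.g

theorem shortExact_cut (hN : PicF.IsInvertible N) {S : ShortComplex X.Modules} (hS : S.ShortExact)
    (h : Mono (mulS s S.X₃)) : (K923.Snake.cok (mulSS s S)).ShortExact :=
  have : Mono (mulSS s S).τ₃ := h
  K923.Snake.shortExact_cok hS (Fga.TwistCoh.shortExact_tensorBi hN S hS) (mulSS s S)

end cut

section Pn

variable {k : Type u} [Field k] {n : ℕ}

/-- The hyperplane section. -/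
noncomputable abbrev cut (s : Coh.structureModule (CohB1.ProjSpace n k) ⟶ O k n 1)
    (F : (CohB1.ProjSpace n k).Modules) : (CohB1.ProjSpace n k).Modules := cokernel (mulS s (tw F (-1)))

theorem e1 (F : (CohB1.ProjSpace n k).Modules) : Nonempty (CohB1.tensorMod (O k n 1) (tw F (-1)) ≅ F) := by
  rw [← mc_eq_iff, mc_tensor, mc_tw, mul_left_comm, mc_O_mul, add_neg_cancel, mc_O_zero, mul_one]

/-- The sequence of a hyperplane section. -/
noncomputable abbrev seq (s : Coh.structureModule (CohB1.ProjSpace n k) ⟶ O k n 1)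
    (F : (CohB1.ProjSpace n k).Modules) : ShortComplex (CohB1.ProjSpace n k).Modules :=
  ShortComplex.mk (mulS s (tw F (-1))) (cokernel.π (mulS s (tw F (-1)))) (cokernel.condition _)

theorem shortExact_seq (s : Coh.structureModule (CohB1.ProjSpace n k) ⟶ O k n 1)
    (F : (CohB1.ProjSpace n k).Modules) [Mono (mulS s (tw F (-1)))] : (seq s F).ShortExact :=
  shortExact_cokernel _

theorem he (F : (CohB1.ProjSpace n k).Modules) (t : ℤ) :
    Nonempty (tw (CohB1.tensorMod (O k n 1) (tw F (-1))) t ≅ tw (tw F (-1)) (t + 1)) := by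
  rw [← mc_eq_iff, mc_tw, mc_tensor, mc_tw (tw F (-1)) (t + 1), add_comm t 1, ← mc_O_mul k n 1 t,
    mul_comm (mc (O k n 1)) (mc (tw F (-1))), mul_assoc]

theorem isCoh_cut (s : Coh.structureModule (CohB1.ProjSpace n k) ⟶ O k n 1)
    {F : (CohB1.ProjSpace n k).Modules} (hF : Coh.IsCoh F) : Coh.IsCoh (cut s F) :=
  isCoh_cokernel_mulS (isAmple_O_one k n).1 s (isCoh_tw hF _)

theorem HP_cut (s : Coh.structureModule (CohB1.ProjSpace n k) ⟶ O k n 1)
    {F : (CohB1.ProjSpace n k).Modules} (hF : Coh.IsCoh F) [Mono (mulS s (tw F (-1)))] {P : ℚ[X]} (hP : HP k F P) :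
    HP k (cut s F) (P - P.comp (X - C 1)) := by
  have hW : Coh.IsCoh (tw F (-1)) := isCoh_tw hF (-1)
  have hNW : Coh.IsCoh (CohB1.tensorMod (O k n 1) (tw F (-1))) := isCoh_tens (isAmple_O_one k n).1 hW
  have hPW : HP k (tw F (-1)) (P.comp (X - C 1)) := by
    have h := HP_tw k hP (-1)
    rwa [Int.cast_neg, Int.cast_one, C_neg, ← sub_eq_add_neg] at h
  intro t
  have h1 := euler_obj_add k n (shortExact_seq s F) hW hNW (isCoh_cut s hF) t
  have h2 := HP_congr k (e1 F).some.symm hP t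
  have h3 := hPW t
  rw [eval_sub, ← h2, ← h3]
  have h4 : ((Curv2.euler k (CohB1.ProjSpace n k) (tw (seq s F).X₂ t) : ℤ) : ℚ) =
      Curv2.euler k (CohB1.ProjSpace n k) (tw (seq s F).X₁ t) +
        Curv2.euler k (CohB1.ProjSpace n k) (tw (seq s F).X₃ t) := by
    exact_mod_cast h1
  exact (sub_eq_of_eq_add' h4).symm

theorem dim_cut (s : Coh.structureModule (CohB1.ProjSpace n k) ⟶ O k n 1)
    {F : (CohB1.ProjSpace n k).Modules} (hF : Coh.IsCoh F) (hs : AssSch.Ass (tw F (-1)) ⊆ CohB1.genLocus _ s) {c : ℕ}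
    (hd : topologicalKrullDim (CohB1.support F) ≤ ((c + 1 : ℕ) : WithBot ℕ∞)) :
    topologicalKrullDim (CohB1.support (cut s F)) ≤ (c : WithBot ℕ∞) := by
  have hNoeth := Fga.IntAdd.isNoetherian k (CohB1.ProjSpace n k)
  have hW : Coh.IsCoh (tw F (-1)) := isCoh_tw hF (-1)
  refine Sga7.H764.DimClosure.topologicalKrullDim_le_of_isClosed _ (S0020.result _ _ (isCoh_cut s hF).2) _
    fun z hz => ?_
  rw [support_cokernel_mulS s (tw F (-1)) (isAmple_O_one k n).1 hW.2] at hz
  obtain ⟨y, hy, hyz⟩ := exists_ass_specializes hW hz.1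
  have hne : z ≠ y := by
    rintro rfl
    exact hz.2 (hs hy)
  refine dim_closure_le_of_specializes hyz hne c ?_
  refine (dim_closure_le hW (mem_support_of_mem_ass hy)).trans ?_
  have h1 : CohB1.support (tw F (-1)) = CohB1.support F := support_tensor_right (O_inv (-1)) F
  rw [h1]
  exact hd

end Pn

section bounds

/-- Vanishing of `H^0(G(t))` for `t ≪ 0`, uniformly. -/
theorem exists_bound0 (n b : ℕ) (hb : 1 ≤ b) (e : ℕ) (P : ℚ[X]) : ∃ t₀ : ℤ,
    ∀ (k : Type u) [Field k] [Infinite k] (G : (CohB1.ProjSpace n k).Modules)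
      (q : FlatMod.freeMod (CohB1.ProjSpace n k) b ⟶ G), Coh.IsCoh G → Epi q → IsPure _ G (e + 1) → HP k G P →
      ∀ t ≤ t₀, Module.finrank k (Coh.HH (CohB1.ProjSpace n k) (tw G t) 0) = 0 := by
  obtain ⟨T, hT⟩ := exists_reg.{u} n b hb P
  refine ⟨T - ⌊P.eval (T : ℚ)⌋, fun k _ _ G q hG hq hp hP t ht => ?_⟩
  have h1 := (hT k G q hG hq hP T le_rfl).1
  have h2 := Fga.MumReg.euler_large G T h1
  have h3 := hP T
  rw [h2] at h3
  refine K923.Snake.eq_zero (f := fun t => Module.finrank k (Coh.HH (CohB1.ProjSpace n k) (tw G t) 0))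
    (fun t h => finrank_lt k hG hp t h) (fun t => finrank_le k hG t) T ?_
  rw [← h3] at ht
  rw [Int.floor_intCast] at ht
  exact ht

/-- The dimension of `H^1(G(t))` is bounded, uniformly. -/
theorem exists_bound1 (n b : ℕ) (hb : 1 ≤ b) (e : ℕ) (P : ℚ[X]) : ∃ B : ℕ,
    ∀ (k : Type u) [Field k] [Infinite k] (G : (CohB1.ProjSpace n k).Modules)
      (q : FlatMod.freeMod (CohB1.ProjSpace n k) b ⟶ G), Coh.IsCoh G → Epi q → IsPure _ G (e + 2) → HP k G P →
      ∀ t, Module.finrank k (Coh.HH (CohB1.ProjSpace n k) (tw G t) 1) ≤ B := by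
  obtain ⟨T, hT⟩ := exists_reg.{u} n b hb (P - P.comp (X - C 1))
  refine ⟨⌊(P - P.comp (X - C 1)).eval (T : ℚ)⌋.toNat ^ 2, fun k _ _ G q hG hq hp hP t => ?_⟩
  have hNoeth := Fga.IntAdd.isNoetherian k (CohB1.ProjSpace n k)
  have hW : Coh.IsCoh (tw G (-1)) := isCoh_tw hG (-1)
  have hpW : IsPure _ (tw G (-1)) (e + 1 + 1) := isPure_tw hp (-1)
  have hNW : Coh.IsCoh (CohB1.tensorMod (O k n 1) (tw G (-1))) := isCoh_tens (isAmple_O_one k n).1 hW
  obtain ⟨B, hB, hcut⟩ := exists_bad k (CohB1.ProjSpace n k) (isAmple_O_one k n) hW hpW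
  obtain ⟨s, hs⟩ := exists_section_avoiding k (Coh.toGlobal ((CohB1.ProjSpace n k) ↘ Spec (CommRingCat.of k)))
    (isAmple_O_one k n).1 (exists_mem_genLocus k n) (AssSch.Ass (tw G (-1)) ∪ B) ((SubFilt.finite_ass hW).union hB)
  have hm := mono_mulS (isAmple_O_one k n).1 s hW (Set.subset_union_left.trans hs)
  have hpD : IsPure _ (cut s G) (e + 1) := hcut _ (isAmple_O_one k n).1 s hs
  have hD : Coh.IsCoh (cut s G) := isCoh_cut s hG
  have hS := shortExact_seq s G
  have hPD := HP_cut s hG hP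
  let q' : FlatMod.freeMod (CohB1.ProjSpace n k) b ⟶ (seq s G).X₃ := q ≫ (e1 G).some.inv ≫ (seq s G).g
  have hepi : Epi (seq s G).g := hS.epi_g
  have hq' : Epi q' := epi_comp _ _
  have hreg := hT k (cut s G) q' hD hq' hPD
  have hreg' : ∀ t : ℤ, T ≤ t →
      (∀ i : ℕ, 1 ≤ i → Subsingleton (Coh.HH (CohB1.ProjSpace n k) (tw (seq s G).X₃ t) i)) ∧
      Function.Surjective (HHmap k (twm (seq s G).g t) 0) := by
    intro t ht
    refine ⟨(hreg t ht).1, fun x => ?_⟩
    obtain ⟨y, hy⟩ := (hreg t ht).2 x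
    refine ⟨HHmap k (twm (q ≫ (e1 G).some.inv) t) 0 y, ?_⟩
    rw [HHmap_comp_apply]
    have h5 : twm (q ≫ (e1 G).some.inv) t ≫ twm (seq s G).g t = twm q' t := by
      change (DCoh.tensorRightMod _).map _ ≫ (DCoh.tensorRightMod _).map _ = (DCoh.tensorRightMod _).map _
      rw [← Functor.map_comp, Category.assoc]
    rw [h5]
    exact hy
  have hvan := vanish k (seq s G) hS hW (he G) T hreg'
  have hχD := Fga.MumReg.euler_large (seq s G).X₃ T (hreg' T le_rfl).1
  have h2 : (P - P.comp (X - C 1)).eval (T : ℚ) =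
      ((Module.finrank k (Coh.HH (CohB1.ProjSpace n k) (tw (cut s G) T) 0) : ℤ) : ℚ) := by
    rw [← hPD T]
    exact congrArg _ hχD
  rw [h2, Int.floor_intCast, Int.toNat_natCast]
  have h3 : Module.finrank k (Coh.HH (CohB1.ProjSpace n k) (tw (tw G (-1)) (t + 1)) 1) ≤
      Module.finrank k (Coh.HH (CohB1.ProjSpace n k) (tw (cut s G) T) 0) ^ 2 := by
    refine K923.Snake.bound
      (w := fun t => Module.finrank k (Coh.HH (CohB1.ProjSpace n k) (tw (tw G (-1)) t) 1))
      (f := fun t => Module.finrank k (Coh.HH (CohB1.ProjSpace n k) (tw (cut s G) t) 0))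
      (fun t => ?_) (fun t h => finrank_lt k hD hpD t h) (fun t => finrank_le k hD t) T (fun t ht => ?_) (t + 1)
    · obtain ⟨e⟩ := he G t
      rw [← (hmapEquiv k _ e 1).finrank_eq]
      have hSt := shortExact_twist k n hS t
      have f1 : Module.Finite k (Coh.HH (CohB1.ProjSpace n k) (tw (cut s G) t) 0) :=
        S0002.result k _ _ (isCoh_tw hD t) 0
      have f2 : Module.Finite k (Coh.HH (CohB1.ProjSpace n k) (tw (tw G (-1)) t) 1) :=
        S0002.result k _ _ (isCoh_tw hW t) 1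
      have f3 : Module.Finite k (Coh.HH (CohB1.ProjSpace n k)
          (tw (CohB1.tensorMod (O k n 1) (tw G (-1))) t) 1) := S0002.result k _ _ (isCoh_tw hNW t) 1
      exact finrank_le_of_exact (FormalB.HHLes.δ k hSt 0) (HHmap k (twm (seq s G).f t) 1)
        (FormalB.HHLes.exact_δ_map k hSt 0)
    · have := hvan t ht 1 le_rfl
      exact Module.finrank_zero_of_subsingleton
  obtain ⟨e2⟩ := tw_tw G (-1) (t + 1)
  rw [(hmapEquiv k _ e2 1).finrank_eq] at h3
  have e3 : -1 + (t + 1) = t := by ring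
  rwa [e3] at h3

end bounds

end K923.NodeC
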