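import Groth.Agent.ShStab.K923.NodeC2
import Groth.Agent.ShStab.K781.Base

/-!
# Node C (namespace `K923.NodeC3`)
-/

set_option autoImplicit false
universe u
open CategoryTheory CategoryTheory.Limits AlgebraicGeometry TopologicalSpace Polynomial

namespace K923.NodeC3

open Groth.Agent Groth.Agent.Fga.PicMon ShStab K847.Pn K847.GL K847.Cut K923.NodeC2

/-- **Node C.** -/
theorem stmtC : K781.Base.StmtC.{u} := by
  intro n b hb ρ c d hcd 𝒮 h𝒮
  obtain ⟨B, hB⟩ := main.{u} n b hb c d hcd _ (h𝒮.image (fun P : ℚ[X] => P.comp (X + C (ρ : ℚ))))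
  refine ⟨B, fun k _ _ R R' Q τ q ι π w κ j hR hq hp P hP hP' hj he hS hτ hκ hdim Pτ hPτ => ?_⟩
  obtain ⟨e⟩ := he
  have hR1' : Coh.IsCoh R' := Sga67.CohBasic.isCoh_of_iso e.symm (isCoh_tw hR _)
  have hp' : IsPure _ R' d := K847.StabBasic.isPure_iso e.symm (isPure_tw hp _)
  have hπ : Epi π := hS.epi_g
  have hι : Mono ι := hS.mono_f
  have hQ : Coh.IsCoh Q := by
    have h1 : Coh.IsCoh (cokernel ι) := K847.StabBasic.isCoh_cokernel' k ι hR1' hR
    exact Sga67.CohBasic.isCoh_of_iso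
      (IsColimit.coconePointUniqueUpToIso (cokernelIsCokernel ι) hS.gIsCokernel) h1
  refine hB k (ShortComplex.mk ι π w) ρ (ρ + j) τ κ hS ?_ ?_ hQ hτ hκ hdim Pτ hPτ
  · refine ⟨hR, hp, ⟨q, hq⟩, _, ⟨P, hP, rfl⟩, ?_⟩
    have e1 : (P.comp (X + C (ρ : ℚ))).comp (X - C (ρ : ℚ)) = P := by
      rw [comp_assoc]; simp
    rw [e1]
    exact hP'
  · refine ⟨hR1', hp', ?_, _, ⟨P, hP, rfl⟩, ?_⟩
    · obtain ⟨e2⟩ : Nonempty (tw (FlatMod.freeMod (CohB1.ProjSpace n k) b) (-(ρ + (j : ℤ))) ≅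
          tw (tw (FlatMod.freeMod (CohB1.ProjSpace n k) b) (-ρ)) (-(j : ℤ))) := by
        rw [neg_add]
        exact ⟨(tw_tw _ _ _).some.symm⟩
      have h1 : Epi (twm q (-(j : ℤ))) := epi_twm q hq _
      have h2 : Epi (twm q (-(j : ℤ)) ≫ e.inv) := epi_comp _ _
      exact ⟨e2.hom ≫ twm q (-(j : ℤ)) ≫ e.inv, epi_comp _ _⟩
    · have h1 := HP_congr k e.symm (HP_tw k hP' (-(j : ℤ)))
      have e1 : (P.comp (X + C (ρ : ℚ))).comp (X - C (((ρ + j : ℤ)) : ℚ)) = P.comp (X + C ((-(j : ℤ) : ℤ) : ℚ)) := by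
        rw [comp_assoc]
        congr 1
        simp only [add_comp, X_comp, C_comp]
        push_cast
        rw [C_add, C_neg]
        ring
      rw [e1]
      exact h1

end K923.NodeC3
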