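import Groth.Agent.ShStab.K781.Inst2
import Groth.Agent.ShStab.K781.Lat4
import Groth.Agent.ShStab.K923.NodeC3

/-!
# Node CC: the torsion of `E / (K + h^j E)` (namespace `K923.CC`)
-/

set_option autoImplicit false
universe u
open CategoryTheory CategoryTheory.Limits AlgebraicGeometry TopologicalSpace Polynomial

namespace K923.CC

open Groth.Agent Groth.Agent.Fga.RegSec Groth.Agent.Fga.PicMon ShStab StabCat K847.Pn K847.GL
  Groth.Agent.FormalA.HHLin K781.Base K781.Cat K781.Cat2 K781.PLat K846.CSub K781.Inst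

variable {k : Type u} [Field k] {n : ℕ}

theorem dimLE_of_natDegree {F : (CohB1.ProjSpace n k).Modules} (hF : Coh.IsCoh F) {c : ℕ}
    (h : (Coherent.K51.HPDict.hp k n F).natDegree ≤ c) : DimLE F c := by
  by_cases h0 : IsZero F
  · have h1 := CohqB.DevSupport.support_eq_empty_of_isZero h0
    have h2 : IsEmpty (IrreducibleCloseds ↥(CohB1.support F)) := ⟨fun Z => by
      obtain ⟨x, -⟩ := Z.isIrreducible.nonempty
      have h3 : x.1 ∈ (∅ : Set (CohB1.ProjSpace n k)) := h1 ▸ x.2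
      exact h3⟩
    unfold DimLE topologicalKrullDim
    rw [Order.krullDim_eq_bot]
    exact bot_le
  · unfold DimLE
    rw [facts.dim F hF h0]
    exact_mod_cast h

theorem nonempty_congr {E : (CohB1.ProjSpace n k).Modules} {A A' B : Subobject E} (h : A = A') (h1 : A ≤ B)
    (h2 : A' ≤ B) : Nonempty (cokernel (Subobject.ofLE A B h1) ≅ cokernel (Subobject.ofLE A' B h2)) := by
  subst h
  exact ⟨Iso.refl _⟩

variable {E : (CohB1.ProjSpace n k).Modules} [hE : Fact (Coh.IsCoh E)]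

/-- `E / K` is pure if `K` is saturated. -/
theorem isPure_coker {g : ℕ} (hd : DimLE E (g + 2)) (K : CSub E)
    (hK : ∀ B, K ≤ B → alpha (g + 2) (PC B) = alpha (g + 2) (PC K) → B ≤ K) :
    IsPure (CohB1.ProjSpace n k) (cokernel K.1.arrow) (g + 2) := by
  intro T κ _ hT hT0
  obtain ⟨H, hKH, hH⟩ := exists_above facts K κ hT
  have h1 := facts.dim T hT hT0
  have h2 : DimLE T (g + 2) := K774.NodeK.dimLE_of_mono k κ (K774.NodeK.dimLE_of_epi k (cokernel.π K.1.arrow) hd)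
  have h3 : (Coherent.K51.HPDict.hp k n T).natDegree ≤ g + 2 :=
    K774.NodeK.natDegree_le_of_dimLE k hT h2 (Coherent.K51.HPDict.HP_hp hT)
  rw [h1]
  rcases h3.lt_or_eq with h4 | h4
  · exfalso
    have h5 : alpha (g + 2) (Coherent.K51.HPDict.hp k n T) = 0 := by
      unfold alpha
      rw [coeff_eq_zero_of_natDegree_lt h4, mul_zero]
    rw [hH, K847.PolyOrd.alpha_sub] at h5
    have h6 : H = K := le_antisymm (hK H hKH (sub_eq_zero.mp h5)) hKH
    rw [h6, sub_self] at hH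
    have h7 := facts.pos T hT hT0
    rw [hH, leadingCoeff_zero] at h7
    exact lt_irrefl _ h7
  · rw [h4]

variable (s : Coh.structureModule (CohB1.ProjSpace n k) ⟶ O k n 1) [hs : Mono ((nu s).app E)]

omit hE in
theorem nonempty_hsub_coker {A B : Subobject E} (hAB : A ≤ B) :
    Nonempty (cokernel (Subobject.ofLE (hsub (Th k n) (nu s) A) (hsub (Th k n) (nu s) B)
      ((hsub_le_iff (Th k n) (nu s)).mpr hAB)) ≅ tw (cokernel (Subobject.ofLE A B hAB)) (-1)) := by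
  obtain ⟨e⟩ := nonempty_hsub (Th k n) (nu s) hAB
  obtain ⟨e'⟩ := nonempty_untw ((Th k n).functor.mapIso e ≪≫ (Th k n).counitIso.app _)
  exact ⟨e'⟩

omit hE in
theorem nonempty_iter {A B : CSub E} (hAB : A ≤ B) (j : ℕ) : ∃ h : (hC s)^[j] A ≤ (hC s)^[j] B,
    Nonempty (cokernel (Subobject.ofLE ((hC s)^[j] A).1 ((hC s)^[j] B).1 h) ≅
      tw (cokernel (Subobject.ofLE A.1 B.1 hAB)) (-(j : ℤ))) := by
  induction j with
  | zero =>
    refine ⟨hAB, ?_⟩
    rw [← mc_eq_iff, mc_tw]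
    simp [mc_O_zero]
  | succ j ih =>
    obtain ⟨h, ⟨e⟩⟩ := ih
    rw [Function.iterate_succ_apply', Function.iterate_succ_apply']
    refine ⟨(hsub_le_iff (Th k n) (nu s)).mpr h, ?_⟩
    obtain ⟨e'⟩ := nonempty_hsub_coker s (A := ((hC s)^[j] A).1) (B := ((hC s)^[j] B).1) h
    refine ⟨e' ≪≫ Nonempty.some ?_⟩
    rw [← mc_eq_iff, mc_tw, mc_eq e, mc_tw, mc_tw, mul_assoc, mc_O_mul]
    congr 2
    push_cast
    ring_nf

/-- **Node CC.** -/
theorem stmtCC : StmtCC.{u} := by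
  intro k _ _ n g E hE hd 𝒮 h𝒮
  obtain ⟨b, ρ, q, hb, hq⟩ := K774.NodeK.exists_fr k hE.out
  have hCC : ∀ c : ℕ, ∃ C : ℚ, c ≤ g → _ := fun c => by
    by_cases hc : c ≤ g
    · obtain ⟨C, hC⟩ := K923.NodeC3.stmtC.{u} n b hb ρ c (g + 2) (by omega) 𝒮 h𝒮
      exact ⟨C, fun _ => hC⟩
    · exact ⟨0, fun h => absurd h hc⟩
  choose C hCC using hCC
  refine ⟨∑ c ∈ Finset.range (g + 1), |C c|, Finset.sum_nonneg fun _ _ => abs_nonneg _, ?_⟩
  intro s hs K hK hKS j A hA c hc hdeg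
  have hH := pl s hd
  have hRS : K781.Lat4.RSat hH.num K := fun B h1 h2 => le_antisymm (hK B h1 h2) h1
  have hinf := K781.Lat4.inf_hp hH.num hRS j (B := ⊤) le_top
  have hdegC : C c ≤ ∑ c ∈ Finset.range (g + 1), |C c| :=
    (le_abs_self _).trans (Finset.single_le_sum (f := fun c => |C c|) (fun _ _ => abs_nonneg _)
      (Finset.mem_range.mpr (by omega)))
  set M : CSub E := (hC s)^[j] ⊤ with hM
  rcases Nat.eq_zero_or_pos j with hj | hj
  · have h1 : M = ⊤ := by rw [hM, hj]; rfl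
    have h2 : A = K ⊔ M := by
      rw [h1, sup_top_eq] at hA ⊢
      exact top_le_iff.mp hA
    rw [h2, sub_self]
    refine le_trans (le_of_eq ?_) (Finset.sum_nonneg fun _ _ => abs_nonneg _)
    simp [alpha]
  have hKM : K ≤ K ⊔ M := le_sup_left
  have hMt : K ⊔ M ≤ ⊤ := le_top
  have hAt : A ≤ ⊤ := le_top
  -- the modules
  let R := cokernel (Subobject.ofLE K.1 (⊤ : CSub E).1 (hKM.trans hMt))
  let R' := cokernel (Subobject.ofLE K.1 (K ⊔ M).1 hKM)
  let ι : R' ⟶ R := qm (E := E) (A := K.1) (B := (K ⊔ M).1) (C' := K.1) (D := (⊤ : CSub E).1) hKM (hKM.trans hMt)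
    le_rfl hMt
  have hι : Mono ι := mono_qm _ _ _ _ (by exact inf_le_right)
  obtain ⟨e3⟩ := nonempty_third (A := K.1) (B := (K ⊔ M).1) (D := (⊤ : CSub E).1) hKM hMt
  let τ := cokernel (Subobject.ofLE (K ⊔ M).1 A.1 hA)
  let κ0 : τ ⟶ cokernel (Subobject.ofLE (K ⊔ M).1 (⊤ : CSub E).1 hMt) :=
    qm (E := E) (A := (K ⊔ M).1) (B := A.1) (C' := (K ⊔ M).1) (D := (⊤ : CSub E).1) hA hMt le_rfl hAt
  have hκ0 : Mono κ0 := mono_qm _ _ _ _ (by exact inf_le_right)
  have hRc : Coh.IsCoh R := coh_coker facts (hKM.trans hMt)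
  have hR'c : Coh.IsCoh R' := coh_coker facts hKM
  have hτc : Coh.IsCoh τ := coh_coker facts hA
  have hπ : Epi (q ≫ cokernel.π K.1.arrow ≫ (cokerTop K).inv) := epi_comp _ _
  have hpR : IsPure (CohB1.ProjSpace n k) R (g + 2) :=
    K847.StabBasic.isPure_iso (cokerTop K).symm (isPure_coker hd K hK)
  have hHPR : HP k R (PC (⊤ : CSub E) - PC K) := by
    have h1 := Coherent.K51.HPDict.HP_hp (k := k) (n := n) hRc
    have h2 : Coherent.K51.HPDict.hp k n R = PC (⊤ : CSub E) - PC K := hp_coker facts (hKM.trans hMt)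
    rw [h2] at h1
    exact h1
  have h2τ : Coherent.K51.HPDict.hp k n τ = PC A - PC (K ⊔ M) := hp_coker facts hA
  have hHPτ : HP k τ (PC A - PC (K ⊔ M)) := by
    have h1 := Coherent.K51.HPDict.HP_hp (k := k) (n := n) hτc
    rw [h2τ] at h1
    exact h1
  have hiso : Nonempty (R' ≅ tw R (-(j : ℤ))) := by
    obtain ⟨e1⟩ := Groth.Agent.Cohder.SubobjLattice.secondIso K.1 M.1 inf_le_right le_sup_left
    obtain ⟨h5, ⟨e2⟩⟩ := nonempty_iter s (A := K) (B := ⊤) le_top j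
    have h6 : K.1 ⊓ M.1 = ((hC s)^[j] K).1 := congrArg Subtype.val hinf
    obtain ⟨e4⟩ := nonempty_congr h6 inf_le_right h5
    exact ⟨e1.symm ≪≫ e4 ≪≫ e2⟩
  refine (hCC c hc k R R' (cokernel ι) τ (q ≫ cokernel.π K.1.arrow ≫ (cokerTop K).inv) ι (cokernel.π ι)
    (cokernel.condition ι) (κ0 ≫ e3.inv) j hRc hπ hpR _ hKS hHPR hj hiso
    (K774.NodeK.shortExact_coker k ι) hτc (mono_comp _ _) (dimLE_of_natDegree hτc (by rw [h2τ]; exact hdeg))
    _ hHPτ).trans hdegC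

end K923.CC
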