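import Groth.Agent.ShStab.K923.NodeC

/-!
# The induction for node C (namespace `K923.NodeC2`)
-/

set_option autoImplicit false
universe u
open CategoryTheory CategoryTheory.Limits AlgebraicGeometry TopologicalSpace Polynomial

namespace K923.NodeC2

open Groth.Agent Groth.Agent.Fdesc Groth.Agent.Fdesc.LocGen Groth.Agent.Fga.RegSec Groth.Agent.Fga.PicMon ShStab
  K847.StabBasic K847.AssPure K847.CutAlg K847.Cut K847.Lin K847.TwistSS K847.CurveVan Groth.Agent.VarietyB.EulerBinom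
  Groth.Agent.FormalA.HHLin K847.Pn K847.GL K847.HilbBasic StabCat K923.NodeC

/-- A pure `d`-dimensional quotient of `O(-a)^b` with Hilbert polynomial `P(X - a)`, `P ∈ 𝒮`. -/
structure Fam (n b d : ℕ) (𝒮 : Set ℚ[X]) (k : Type u) [Field k] (a : ℤ) (G : (CohB1.ProjSpace n k).Modules) :
    Prop where
  coh : Coh.IsCoh G
  pure : IsPure _ G d
  quot : ∃ q : tw (FlatMod.freeMod (CohB1.ProjSpace n k) b) (-a) ⟶ G, Epi q
  hp : ∃ P ∈ 𝒮, HP k G (P.comp (X - C (a : ℚ)))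

section fam

variable {n b d : ℕ} {𝒮 : Set ℚ[X]} {k : Type u} [Field k] {a : ℤ} {G : (CohB1.ProjSpace n k).Modules}

theorem epi_twm {F G : (CohB1.ProjSpace n k).Modules} (q : F ⟶ G) (hq : Epi q) (r : ℤ) : Epi (twm q r) := by
  have : (DCoh.tensorRightMod (O k n r)).PreservesEpimorphisms := inferInstance
  exact this.preserves q

theorem Fam.tw_quot (h : Fam n b d 𝒮 k a G) :
    ∃ q : FlatMod.freeMod (CohB1.ProjSpace n k) b ⟶ tw G a, Epi q := by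
  obtain ⟨q, hq⟩ := h.quot
  obtain ⟨e⟩ : Nonempty (FlatMod.freeMod (CohB1.ProjSpace n k) b ≅
      tw (tw (FlatMod.freeMod (CohB1.ProjSpace n k) b) (-a)) a) := by
    rw [← mc_eq_iff, mc_tw, mc_tw, mul_assoc, mc_O_mul, neg_add_cancel, mc_O_zero, mul_one]
  have hepi : Epi (twm q a) := epi_twm q hq a
  exact ⟨e.hom ≫ twm q a, epi_comp _ _⟩

theorem comp_sub_add (P : ℚ[X]) (r : ℚ) : (P.comp (X - C r)).comp (X + C r) = P := by
  rw [comp_assoc]; simp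

theorem Fam.tw_hp (h : Fam n b d 𝒮 k a G) : ∃ P ∈ 𝒮, HP k (tw G a) P := by
  obtain ⟨P, hP, hP'⟩ := h.hp
  refine ⟨P, hP, ?_⟩
  have h1 := HP_tw k hP' a
  rwa [comp_sub_add] at h1

end fam

/-- Uniform vanishing of `H^0`. -/
theorem fam_bound0 (n b : ℕ) (hb : 1 ≤ b) (e : ℕ) {𝒮 : Set ℚ[X]} (h𝒮 : 𝒮.Finite) : ∃ t₀ : ℤ,
    ∀ (k : Type u) [Field k] [Infinite k] (a : ℤ) (G : (CohB1.ProjSpace n k).Modules), Fam n b (e + 1) 𝒮 k a G →
      ∀ t ≤ t₀, Module.finrank k (Coh.HH (CohB1.ProjSpace n k) (tw G (a + t)) 0) = 0 := by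
  choose f hf using fun P => exists_bound0.{u} n b hb e P
  obtain ⟨t₀, ht₀⟩ := (h𝒮.image f).bddBelow
  refine ⟨t₀, fun k _ _ a G hG t ht => ?_⟩
  obtain ⟨q, hq⟩ := hG.tw_quot
  obtain ⟨P, hP, hP'⟩ := hG.tw_hp
  have h1 := hf P k (tw G a) q (isCoh_tw hG.coh a) hq (isPure_tw hG.pure a) hP' t
    (ht.trans (ht₀ ⟨P, hP, rfl⟩))
  rwa [(hmapEquiv k _ (tw_tw G a t).some 0).finrank_eq] at h1

/-- Uniform bound of `H^1`. -/
theorem fam_bound1 (n b : ℕ) (hb : 1 ≤ b) (e : ℕ) {𝒮 : Set ℚ[X]} (h𝒮 : 𝒮.Finite) : ∃ B : ℕ,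
    ∀ (k : Type u) [Field k] [Infinite k] (a : ℤ) (G : (CohB1.ProjSpace n k).Modules), Fam n b (e + 2) 𝒮 k a G →
      ∀ t : ℤ, Module.finrank k (Coh.HH (CohB1.ProjSpace n k) (tw G t) 1) ≤ B := by
  choose f hf using fun P => exists_bound1.{u} n b hb e P
  obtain ⟨B, hB⟩ := (h𝒮.image f).bddAbove
  refine ⟨B, fun k _ _ a G hG t => ?_⟩
  obtain ⟨q, hq⟩ := hG.tw_quot
  obtain ⟨P, hP, hP'⟩ := hG.tw_hp
  have h1 := hf P k (tw G a) q (isCoh_tw hG.coh a) hq (isPure_tw hG.pure a) hP' (t - a)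
  rw [(hmapEquiv k _ (tw_tw G a (t - a)).some 1).finrank_eq] at h1
  have e : a + (t - a) = t := by ring
  rw [e] at h1
  exact h1.trans (hB ⟨P, hP, rfl⟩)

/-- The hyperplane section of a member of a family. -/
theorem Fam.cut {n b d : ℕ} {𝒮 : Set ℚ[X]} {k : Type u} [Field k] {a : ℤ} {G : (CohB1.ProjSpace n k).Modules}
    (h : Fam n b (d + 1) 𝒮 k a G) (s : Coh.structureModule (CohB1.ProjSpace n k) ⟶ O k n 1)
    (hm : Mono (mulS s (tw G (-1)))) (hp : IsPure _ (NodeC.cut s G) d) :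
    Fam n b d ((fun P : ℚ[X] => P - P.comp (X - C 1)) '' 𝒮) k a (NodeC.cut s G) where
  coh := isCoh_cut s h.coh
  pure := hp
  quot := by
    obtain ⟨q, hq⟩ := h.quot
    have hepi : Epi (seq s G).g := (shortExact_seq s G).epi_g
    exact ⟨q ≫ (e1 G).some.inv ≫ (seq s G).g, epi_comp _ _⟩
  hp := by
    obtain ⟨P, hP, hP'⟩ := h.hp
    refine ⟨_, ⟨P, hP, rfl⟩, ?_⟩
    have h1 := HP_cut s h.coh hP'
    have e : P.comp (X - C (a : ℚ)) - (P.comp (X - C (a : ℚ))).comp (X - C 1) =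
        (P - P.comp (X - C 1)).comp (X - C (a : ℚ)) := by
      rw [sub_comp, comp_assoc, comp_assoc]
      congr 2
      simp only [sub_comp, X_comp, C_comp]
      ring
    rwa [e] at h1

theorem alpha_diff {P : ℚ[X]} {c : ℕ} (hP : P.natDegree ≤ c + 1) :
    alpha c (P - P.comp (X - C 1)) = alpha (c + 1) P := by
  unfold alpha
  rw [K847.GLNum.coeff_diff hP, Nat.factorial_succ]
  push_cast
  ring

/-- **Torsion of dimension at most `d - 2` has bounded multiplicity.** -/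
theorem main (n b : ℕ) (hb : 1 ≤ b) : ∀ (c d : ℕ), c + 2 ≤ d → ∀ 𝒮 : Set ℚ[X], 𝒮.Finite → ∃ B : ℚ,
    ∀ (k : Type u) [Field k] [Infinite k] (S : ShortComplex (CohB1.ProjSpace n k).Modules) (a a' : ℤ)
      (τ : (CohB1.ProjSpace n k).Modules) (κ : τ ⟶ S.X₃), S.ShortExact → Fam n b d 𝒮 k a S.X₂ →
      Fam n b d 𝒮 k a' S.X₁ → Coh.IsCoh S.X₃ → Coh.IsCoh τ → Mono κ →
      topologicalKrullDim (CohB1.support τ) ≤ (c : WithBot ℕ∞) → ∀ Pτ : ℚ[X], HP k τ Pτ → alpha c Pτ ≤ B := by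
  intro c
  induction c with
  | zero =>
    intro d hd 𝒮 h𝒮
    obtain ⟨e, rfl⟩ : ∃ e, d = e + 2 := ⟨d - 2, by omega⟩
    obtain ⟨t₀, ht₀⟩ := fam_bound0.{u} n b hb (e + 1) h𝒮
    obtain ⟨B, hB⟩ := fam_bound1.{u} n b hb e h𝒮
    refine ⟨B, fun k _ _ S a a' τ κ hS hR hR' hQ hτ hκ hdim Pτ hPτ => ?_⟩
    have hdeg : Pτ.natDegree ≤ 0 := natDegree_le k (isAmple_O_one k n).1 hτ hdim (isHilbPoly_of_HP k hPτ)
    have hPC : Pτ = C (Pτ.coeff 0) := eq_C_of_natDegree_le_zero hdeg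
    have hvan : ∀ i : ℕ, 1 ≤ i → Subsingleton (Coh.HH (CohB1.ProjSpace n k) (tw τ (a + t₀)) i) := fun i hi =>
      K428.Reg.subsingleton_of_support hτ 0 hdim (a + t₀) i (by omega)
    have h1 := hPτ (a + t₀)
    rw [Fga.MumReg.euler_large τ (a + t₀) hvan, hPC, eval_C] at h1
    have hSt := shortExact_twist k n hS (a + t₀)
    have f1 : Module.Finite k (Coh.HH (CohB1.ProjSpace n k) (tw S.X₂ (a + t₀)) 0) :=
      S0002.result k _ _ (isCoh_tw hR.coh _) 0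
    have f2 : Module.Finite k (Coh.HH (CohB1.ProjSpace n k) (tw S.X₃ (a + t₀)) 0) :=
      S0002.result k _ _ (isCoh_tw hQ _) 0
    have f3 : Module.Finite k (Coh.HH (CohB1.ProjSpace n k) (tw S.X₁ (a + t₀)) 1) :=
      S0002.result k _ _ (isCoh_tw hR'.coh _) 1
    have h2 : Module.finrank k (Coh.HH (CohB1.ProjSpace n k) (tw S.X₃ (a + t₀)) 0) ≤
        Module.finrank k (Coh.HH (CohB1.ProjSpace n k) (tw S.X₂ (a + t₀)) 0) +
          Module.finrank k (Coh.HH (CohB1.ProjSpace n k) (tw S.X₁ (a + t₀)) 1) :=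
      finrank_le_of_exact (HHmap k (twm S.g (a + t₀)) 0) (FormalB.HHLes.δ k hSt 0)
        (FormalB.HHLes.exact_map_δ k hSt 0)
    rw [ht₀ k a S.X₂ hR t₀ le_rfl, zero_add] at h2
    have hmono : Mono (twm κ (a + t₀)) := by
      have h := shortExact_twist k n (shortExact_cokernel κ) (a + t₀)
      exact h.mono_f
    have h3 : Module.finrank k (Coh.HH (CohB1.ProjSpace n k) (tw τ (a + t₀)) 0) ≤
        Module.finrank k (Coh.HH (CohB1.ProjSpace n k) (tw S.X₃ (a + t₀)) 0) :=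
      finrank_H0_le_of_mono k (twm κ (a + t₀)) (isCoh_tw hQ _)
    have h4 := (h3.trans h2).trans (hB k a' S.X₁ hR' (a + t₀))
    have h5 : alpha 0 Pτ = Pτ.coeff 0 := by
      unfold alpha
      simp
    rw [h5, ← h1]
    exact_mod_cast h4
  | succ c ih =>
    intro d hd 𝒮 h𝒮
    obtain ⟨d, rfl⟩ : ∃ e, d = e + 1 := ⟨d - 1, by omega⟩
    obtain ⟨B, hB⟩ := ih d (by omega) _ (h𝒮.image (fun P : ℚ[X] => P - P.comp (X - C 1)))
    refine ⟨B, fun k _ _ S a a' τ κ hS hR hR' hQ hτ hκ hdim Pτ hPτ => ?_⟩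
    have hNoeth := Fga.IntAdd.isNoetherian k (CohB1.ProjSpace n k)
    have hN := (isAmple_O_one k n).1
    have hR1 : Coh.IsCoh (tw S.X₂ (-1)) := isCoh_tw hR.coh (-1)
    have hR1' : Coh.IsCoh (tw S.X₁ (-1)) := isCoh_tw hR'.coh (-1)
    have hQ1 : Coh.IsCoh (tw S.X₃ (-1)) := isCoh_tw hQ (-1)
    have hτ1 : Coh.IsCoh (tw τ (-1)) := isCoh_tw hτ (-1)
    have hW : Coh.IsCoh (cokernel κ) := isCoh_cokernel' k κ hτ hQ
    have hW1 : Coh.IsCoh (tw (cokernel κ) (-1)) := isCoh_tw hW (-1)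
    obtain ⟨B₂, hB₂, hcut₂⟩ := exists_bad k (CohB1.ProjSpace n k) (isAmple_O_one k n) hR1 (isPure_tw hR.pure (-1))
    obtain ⟨B₁, hB₁, hcut₁⟩ := exists_bad k (CohB1.ProjSpace n k) (isAmple_O_one k n) hR1' (isPure_tw hR'.pure (-1))
    obtain ⟨s, hs⟩ := exists_section_avoiding k (Coh.toGlobal ((CohB1.ProjSpace n k) ↘ Spec (CommRingCat.of k)))
      hN (exists_mem_genLocus k n)
      ((AssSch.Ass (tw S.X₂ (-1)) ∪ B₂) ∪ (AssSch.Ass (tw S.X₁ (-1)) ∪ B₁) ∪ AssSch.Ass (tw S.X₃ (-1)) ∪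
        AssSch.Ass (tw τ (-1)) ∪ AssSch.Ass (tw (cokernel κ) (-1)))
      ((((((SubFilt.finite_ass hR1).union hB₂).union ((SubFilt.finite_ass hR1').union hB₁)).union
        (SubFilt.finite_ass hQ1)).union (SubFilt.finite_ass hτ1)).union (SubFilt.finite_ass hW1))
    simp only [Set.union_subset_iff] at hs
    obtain ⟨⟨⟨⟨⟨hs2, hsB2⟩, hs1, hsB1⟩, hs3⟩, hsτ⟩, hsW⟩ := hs
    have m2 := mono_mulS hN s hR1 hs2
    have m1 := mono_mulS hN s hR1' hs1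
    have m3 := mono_mulS hN s hQ1 hs3
    have mτ := mono_mulS hN s hτ1 hsτ
    have mW := mono_mulS hN s hW1 hsW
    have hp2 : IsPure _ (NodeC.cut s S.X₂) d := hcut₂ _ hN s (Set.union_subset hs2 hsB2)
    have hp1 : IsPure _ (NodeC.cut s S.X₁) d := hcut₁ _ hN s (Set.union_subset hs1 hsB1)
    have hcS := shortExact_cut s hN (shortExact_twist k n hS (-1)) m3
    have hcκ := shortExact_cut s hN (shortExact_twist k n (shortExact_cokernel κ) (-1)) mW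
    have h1 := hB k _ a a' (NodeC.cut s τ) _ hcS (hR.cut s m2 hp2) (hR'.cut s m1 hp1) (isCoh_cut s hQ)
      (isCoh_cut s hτ) hcκ.mono_f (dim_cut s hτ hsτ hdim) _ (HP_cut s hτ hPτ)
    rwa [alpha_diff (natDegree_le k hN hτ hdim (isHilbPoly_of_HP k hPτ))] at h1

end K923.NodeC2
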